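import Mathlib

/-!
# Generic forms have transversal zero loci

For generic forms `F i` of degrees `d i ≥ 1` in `n + 1` variables and a set `T` of indices, there is no
nontrivial common zero of the `F i`, `i ∈ T`, at which the gradients are linearly dependent: at a generic
point of the parameter space the coefficients would lie in an algebra with fewer generators.
-/

set_option autoImplicit false
set_option linter.style.haveILetI false

universe u v

open MvPolynomial

namespace Groth.Agent.CIBert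

variable {n m : ℕ} (d : Fin m → ℕ)

/-- Indices of the coefficients of `m` forms of degrees `d i` in `n + 1` variables. -/
abbrev Par (n : ℕ) {m : ℕ} (d : Fin m → ℕ) : Type :=
  Σ i : Fin m, {e : Fin (n + 1) →₀ ℕ // e ∈ Finset.finsuppAntidiag Finset.univ (d i)}

/-- The form with coefficients `a`. -/
noncomputable def form {D : Type v} [CommRing D] (a : Par n d → D) (i : Fin m) :
    MvPolynomial (Fin (n + 1)) D :=
  ∑ e : {e : Fin (n + 1) →₀ ℕ // e ∈ Finset.finsuppAntidiag Finset.univ (d i)}, monomial e.1 (a ⟨i, e⟩)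

theorem sum_eq {i : Fin m} (e : {e : Fin (n + 1) →₀ ℕ // e ∈ Finset.finsuppAntidiag Finset.univ (d i)}) :
    ∑ l, e.1 l = d i :=
  (Finset.mem_finsuppAntidiag.1 e.2).1

theorem isHomogeneous_form {D : Type v} [CommRing D] (a : Par n d → D) (i : Fin m) :
    (form d a i).IsHomogeneous (d i) := by
  refine IsHomogeneous.sum _ _ _ fun e _ => isHomogeneous_monomial _ ?_
  rw [Finsupp.degree_eq_sum]; exact sum_eq d e

theorem map_form {D D' : Type v} [CommRing D] [CommRing D'] (φ : D →+* D') (a : Par n d → D) (i : Fin m) :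
    MvPolynomial.map φ (form d a i) = form d (fun p => φ (a p)) i := by
  simp [form, map_sum]

/-- The exponent of `X j ^ d`. -/
noncomputable def exp0 (i : Fin m) (j : Fin (n + 1)) :
    {e : Fin (n + 1) →₀ ℕ // e ∈ Finset.finsuppAntidiag Finset.univ (d i)} :=
  ⟨Finsupp.single j (d i), Finset.mem_finsuppAntidiag.2 ⟨by simp [Finsupp.single_apply], Finset.subset_univ _⟩⟩

/-- The exponent of `X j ^ (d - 1) * X l`. -/
noncomputable def exp1 (hd : ∀ i, 0 < d i) (i : Fin m) (j l : Fin (n + 1)) :
    {e : Fin (n + 1) →₀ ℕ // e ∈ Finset.finsuppAntidiag Finset.univ (d i)} :=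
  ⟨Finsupp.single j (d i - 1) + Finsupp.single l 1, Finset.mem_finsuppAntidiag.2
    ⟨by simp [Finsupp.single_apply, Finset.sum_add_distrib, -Finsupp.single_tsub]; have := hd i; omega, Finset.subset_univ _⟩⟩

theorem exp1_apply_self (hd : ∀ i, 0 < d i) (i : Fin m) {j l : Fin (n + 1)} (h : l ≠ j) :
    (exp1 d hd i j l).1 l = 1 := by
  simp [exp1, h, h.symm]

theorem exp1_apply_ne (hd : ∀ i, 0 < d i) (i : Fin m) {j l l' : Fin (n + 1)} (h : l' ≠ j) (h' : l' ≠ l) :
    (exp1 d hd i j l).1 l' = 0 := by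
  simp [exp1, h, h.symm, h', h'.symm]

theorem exp0_apply_ne (i : Fin m) {j l : Fin (n + 1)} (h : l ≠ j) : (exp0 d i j).1 l = 0 := by
  simp [exp0, h, h.symm]

/-- No point over an algebraically independent family of coefficients is a degenerate common zero. -/
theorem generic_nondegenerate (k : Type u) [Field k] (hd : ∀ i, 0 < d i) {D : Type u} [CommRing D]
    [IsDomain D] [Algebra k D] (a : Par n d → D) (ha : AlgebraicIndependent k a)
    (x : Fin (n + 1) → D) (j : Fin (n + 1)) (hx : x j = 1) (T : Finset (Fin m)) (i₀ : Fin m) (hi₀ : i₀ ∈ T)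
    (hF : ∀ i ∈ T, eval x (form d a i) = 0) (c : Fin m → D) (hc : c i₀ = 1)
    (hdep : ∀ l, l ≠ j → ∑ i ∈ T, c i * eval x (pderiv l (form d a i)) = 0) : False := by
  classical
  let x' : {l : Fin (n + 1) // l ≠ j} → D := fun l => x l.1
  let L := {l : Fin (n + 1) // l ≠ j}
  let Sp : Finset (Par n d) := T.biUnion fun i =>
    insert (⟨i, exp0 d i j⟩ : Par n d) (Finset.univ.image fun l : L => (⟨i, exp1 d hd i j l.1⟩ : Par n d))
  let J := {i : Fin m // i ∈ T.erase i₀}
  let G := L ⊕ ({p : Par n d // p ∉ Sp} ⊕ ((J × L) ⊕ J))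
  let g : G → D := Sum.elim x' (Sum.elim (fun p => a p.1) (Sum.elim
    (fun il => eval x (pderiv il.2.1 (form d a il.1.1))) (fun i => c i.1)))
  let A := (aeval (R := k) g).range
  have hgA : ∀ z, g z ∈ A := fun z => ⟨X z, aeval_X g z⟩
  have hxA : ∀ l, x l ∈ A := fun l => by
    by_cases h : l = j
    · subst h; rw [hx]; exact one_mem A
    · exact hgA (Sum.inl ⟨l, h⟩)
  have hnat : ∀ N : ℕ, (N : D) ∈ A := fun N => natCast_mem A N
  have haA : ∀ p, p ∉ Sp → a p ∈ A := fun p hp => hgA (Sum.inr (Sum.inl ⟨p, hp⟩))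
  have hgrad : ∀ i ∈ T, ∀ l : L, eval x (pderiv l.1 (form d a i)) ∈ A := by
    intro i hi l
    by_cases h : i = i₀
    · subst h
      have h1 := hdep l.1 l.2
      rw [← Finset.add_sum_erase T _ hi, hc, one_mul, add_eq_zero_iff_eq_neg] at h1
      rw [h1]
      exact neg_mem (sum_mem fun i' hi' => mul_mem (hgA (Sum.inr (Sum.inr (Sum.inr ⟨i', hi'⟩))))
        (hgA (Sum.inr (Sum.inr (Sum.inl (⟨i', hi'⟩, l))))))
    · exact hgA (Sum.inr (Sum.inr (Sum.inl (⟨i, Finset.mem_erase.2 ⟨h, hi⟩⟩, l))))
  have hmon : ∀ e : Fin (n + 1) →₀ ℕ, e.prod (fun t s => x t ^ s) ∈ A := fun e =>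
    prod_mem fun t _ => pow_mem (hxA t) _
  have hSp : ∀ i ∈ T, ∀ (l : L), a ⟨i, exp1 d hd i j l.1⟩ ∈ A := by
    intro i hi l
    have h1 := hgrad i hi l
    simp only [form, map_sum, pderiv_monomial, eval_monomial] at h1
    rw [Finset.sum_eq_add_sum_sdiff_singleton_of_mem (Finset.mem_univ (exp1 d hd i j l.1))] at h1
    have h2 : a ⟨i, exp1 d hd i j l.1⟩ * ((exp1 d hd i j l.1).1 l.1 : D) *
        ((exp1 d hd i j l.1).1 - Finsupp.single l.1 1).prod (fun t s => x t ^ s) = a ⟨i, exp1 d hd i j l.1⟩ := by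
      have e1 : (exp1 d hd i j l.1).1 - Finsupp.single l.1 1 = Finsupp.single j (d i - 1) := by
        simp [exp1]
      rw [e1, exp1_apply_self d hd i l.2, Nat.cast_one, mul_one, Finsupp.prod_single_index (h := fun t s => x t ^ s) (pow_zero _), hx,
        one_pow, mul_one]
    rw [h2] at h1
    show a ⟨i, exp1 d hd i j l.1⟩ ∈ A
    have h3 := sub_mem h1 (show (∑ e ∈ Finset.univ \ {exp1 d hd i j l.1},
      a ⟨i, e⟩ * (e.1 l.1 : D) * (e.1 - Finsupp.single l.1 1).prod (fun t s => x t ^ s)) ∈ A from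
      sum_mem fun e he => ?_)
    · simpa using h3
    · by_cases hz : e.1 l.1 = 0
      · simp [hz]
      refine mul_mem (mul_mem (haA _ ?_) (hnat _)) (hmon _)
      intro hmem
      simp only [Sp, Finset.mem_biUnion, Finset.mem_insert, Finset.mem_image, Finset.mem_univ, true_and] at hmem
      obtain ⟨i', -, h | ⟨l', h⟩⟩ := hmem
      · obtain ⟨rfl, h⟩ := Sigma.mk.inj_iff.1 h
        rw [eq_of_heq h] at hz
        exact hz (exp0_apply_ne d _ l.2)
      · obtain ⟨rfl, h⟩ := Sigma.mk.inj_iff.1 h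
        have hne : l' ≠ l := fun e' => by
          subst e'
          simp [← eq_of_heq h] at he
        rw [← eq_of_heq h] at hz
        exact hz (exp1_apply_ne d hd _ l.2 fun e' => hne (Subtype.ext e'.symm))
  have hall : ∀ p, a p ∈ A := by
    intro p
    by_cases hp : p ∈ Sp
    swap
    · exact haA p hp
    simp only [Sp, Finset.mem_biUnion, Finset.mem_insert, Finset.mem_image, Finset.mem_univ, true_and] at hp
    obtain ⟨i, hi, rfl | ⟨l, rfl⟩⟩ := hp
    swap
    · exact hSp i hi l
    have h1 := hF i hi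
    simp only [form, map_sum, eval_monomial] at h1
    rw [Finset.sum_eq_add_sum_sdiff_singleton_of_mem (Finset.mem_univ (exp0 d i j)), add_eq_zero_iff_eq_neg] at h1
    rw [show (exp0 d i j).1 = Finsupp.single j (d i) from rfl, Finsupp.prod_single_index (h := fun t s => x t ^ s) (pow_zero _), hx,
      one_pow, mul_one] at h1
    rw [h1]
    refine neg_mem (sum_mem fun e he => mul_mem ?_ (hmon _))
    by_cases hmem : (⟨i, e⟩ : Par n d) ∈ Sp
    · simp only [Sp, Finset.mem_biUnion, Finset.mem_insert, Finset.mem_image, Finset.mem_univ, true_and] at hmem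
      obtain ⟨i', hi', h | ⟨l, h⟩⟩ := hmem
      · obtain ⟨rfl, h⟩ := Sigma.mk.inj_iff.1 h
        simp [eq_of_heq h] at he
      · obtain ⟨rfl, h⟩ := Sigma.mk.inj_iff.1 h
        rw [← eq_of_heq h]
        exact hSp _ hi' l
    · exact haA _ hmem
  -- cardinalities
  have hcard : Fintype.card G + 1 = Fintype.card (Par n d) := by
    have hL : Fintype.card L = n := by simp [L, Fintype.card_subtype_compl]
    have hJ : Fintype.card J = T.card - 1 := (Fintype.card_coe _).trans (Finset.card_erase_of_mem hi₀)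
    have hinj : ∀ i, Function.Injective fun l : L => (⟨i, exp1 d hd i j l.1⟩ : Par n d) := by
      intro i l l' h
      have h1 := eq_of_heq (Sigma.mk.inj_iff.1 h).2
      by_contra hne
      have h2 := congrArg (fun e => e.1 l.1) h1
      simp only [exp1_apply_self d hd i l.2, exp1_apply_ne d hd i l.2 (fun e => hne (Subtype.ext e))] at h2
      exact one_ne_zero h2
    have hSpc : Sp.card = T.card * (n + 1) := by
      rw [Finset.card_biUnion]
      · rw [Finset.sum_const_nat]
        intro i _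
        rw [Finset.card_insert_of_notMem, Finset.card_image_of_injective _ (hinj i), Finset.card_univ, hL]
        simp only [Finset.mem_image, Finset.mem_univ, true_and, not_exists]
        intro l h
        have h1 := congrArg (fun e => e.1 l.1) (eq_of_heq (Sigma.mk.inj_iff.1 h).2)
        simp only [exp1_apply_self d hd i l.2, exp0_apply_ne d i l.2] at h1
        exact one_ne_zero h1
      · intro i _ i' _ hne
        simp only [Function.onFun, Finset.disjoint_left, Finset.mem_insert, Finset.mem_image, Finset.mem_univ,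
          true_and]
        rintro p (rfl | ⟨l, rfl⟩) (h | ⟨l', h⟩)
        · exact hne (Sigma.mk.inj_iff.1 h).1
        · exact hne (Sigma.mk.inj_iff.1 h).1.symm
        · exact hne (Sigma.mk.inj_iff.1 h).1
        · exact hne (Sigma.mk.inj_iff.1 h).1.symm
    have hle : Sp.card ≤ Fintype.card (Par n d) := Sp.card_le_univ
    have hT : 1 ≤ T.card := Finset.card_pos.2 ⟨i₀, hi₀⟩
    simp only [G, Fintype.card_sum, Fintype.card_prod, hL, hJ, Fintype.card_subtype_compl,
      Fintype.card_coe]
    rw [hSpc] at hle ⊢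
    obtain ⟨t, ht⟩ := Nat.exists_eq_add_of_le hT
    rw [ht] at hle ⊢
    simp only [Nat.add_sub_cancel_left]
    have : (1 + t) * (n + 1) = t * n + t + n + 1 := by ring
    omega
  have hind : AlgebraicIndependent k (fun p => (⟨a p, hall p⟩ : A)) := AlgebraicIndependent.of_comp A.val ha
  have h1 := hind.lift_cardinalMk_le_trdeg
  have h2 := lift_trdeg_le_of_surjective (aeval (R := k) g).rangeRestrict (aeval (R := k) g).rangeRestrict_surjective
  rw [MvPolynomial.trdeg_of_isDomain] at h2
  simp only [Cardinal.mk_fintype, Cardinal.lift_natCast, Cardinal.lift_id, Cardinal.lift_id'] at h1 h2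
  have h3 : (Fintype.card (Par n d) : Cardinal.{u}) ≤ (Fintype.card G : Cardinal.{u}) := h1.trans h2
  have := Nat.cast_le.1 h3
  omega

/-- The degenerate common zeros of the forms lie over a hypersurface in the space of coefficients. -/
theorem exists_nondegenerate (k : Type u) [Field k] (hd : ∀ i, 0 < d i) (T : Finset (Fin m)) (i₀ : Fin m)
    (hi₀ : i₀ ∈ T) (j : Fin (n + 1)) :
    ∃ g : MvPolynomial (Par n d) k, g ≠ 0 ∧ ∀ (a : Par n d → k) (x : Fin (n + 1) → k) (c : Fin m → k),
      x j = 1 → c i₀ = 1 → (∀ i ∈ T, eval x (form d a i) = 0) →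
        (∀ l, l ≠ j → ∑ i ∈ T, c i * eval x (pderiv l (form d a i)) = 0) → eval a g = 0 := by
  classical
  let R := MvPolynomial (Par n d ⊕ (Fin (n + 1) ⊕ Fin m)) k
  let a' : Par n d → R := fun p => X (Sum.inl p)
  let x' : Fin (n + 1) → R := fun l => X (Sum.inr (Sum.inl l))
  let c' : Fin m → R := fun i => X (Sum.inr (Sum.inr i))
  let S : Set R := {x' j - 1, c' i₀ - 1} ∪ (fun i => eval x' (form d a' i)) '' {i | i ∈ T} ∪
    (fun l => ∑ i ∈ T, c' i * eval x' (pderiv l (form d a' i))) '' {l | l ≠ j}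
  let ι : MvPolynomial (Par n d) k →ₐ[k] R := rename Sum.inl
  let q := (Ideal.Quotient.mk (Ideal.span S)).comp ι.toRingHom
  have hq : ¬ Function.Injective q := by
    intro hinj
    obtain ⟨P, hP, hP0⟩ := Ideal.exists_comap_eq_of_mem_minimalPrimes_of_injective hinj (⊥ : Ideal _)
      (by rw [IsDomain.minimalPrimes_eq_singleton_bot]; exact rfl)
    let P' := P.comap (Ideal.Quotient.mk (Ideal.span S))
    let π := Ideal.Quotient.mk P'
    have hS : ∀ s ∈ S, π s = 0 := fun s hs => Ideal.Quotient.eq_zero_iff_mem.2 (Ideal.mem_comap.2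
      (by rw [Ideal.Quotient.eq_zero_iff_mem.2 (Ideal.subset_span hs)]; exact zero_mem P))
    have hev : ∀ p : MvPolynomial (Fin (n + 1)) R,
        eval (fun l => π (x' l)) (MvPolynomial.map π p) = π (eval x' p) := fun p => by
      rw [eval_map]; exact (eval₂_comp π x' p).symm
    refine generic_nondegenerate d k hd (fun p => π (a' p)) ?_ (fun l => π (x' l)) j ?_ T i₀ hi₀ ?_
      (fun i => π (c' i)) ?_ ?_
    · show Function.Injective (aeval (R := k) fun p => π (a' p))
      have e : (aeval (R := k) fun p => π (a' p)) = (Ideal.Quotient.mkₐ k P').comp ι := by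
        ext p
        rw [aeval_X]
        exact congrArg π (rename_X (R := k) Sum.inl p).symm
      rw [e, injective_iff_map_eq_zero]
      intro z hz
      have h0 : ι z ∈ P' := Ideal.Quotient.eq_zero_iff_mem.1 hz
      have h1 : z ∈ P.comap q := h0
      rw [hP0] at h1
      exact h1
    · have := hS (x' j - 1) (Or.inl (Or.inl (Or.inl rfl)))
      rwa [map_sub, map_one, sub_eq_zero] at this
    · intro i hi
      have := hS _ (Or.inl (Or.inr ⟨i, hi, rfl⟩))
      rwa [← hev, map_form] at this
    · have := hS (c' i₀ - 1) (Or.inl (Or.inl (Or.inr rfl)))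
      rwa [map_sub, map_one, sub_eq_zero] at this
    · intro l hl
      have := hS _ (Or.inr ⟨l, hl, rfl⟩)
      rw [map_sum] at this
      simp only [map_mul, ← hev, ← pderiv_map, map_form] at this
      exact this
  obtain ⟨g, hg, hg0⟩ : ∃ g, q g = 0 ∧ g ≠ 0 := by
    by_contra! h
    exact hq ((injective_iff_map_eq_zero q).2 h)
  refine ⟨g, hg0, fun a x c hxj hci hF hdep => ?_⟩
  let v : Par n d ⊕ (Fin (n + 1) ⊕ Fin m) → k := Sum.elim a (Sum.elim x c)
  let ε : R →+* k := eval v
  have hev : ∀ p : MvPolynomial (Fin (n + 1)) R,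
      ε (eval x' p) = eval x (MvPolynomial.map ε p) := fun p => by
    rw [eval₂_comp ε x' p, eval_map]
    congr 1
    funext l
    exact eval_X (f := v) (Sum.inr (Sum.inl l))
  have hform : ∀ i, MvPolynomial.map ε (form d a' i) = form d a i := fun i => by
    rw [map_form]
    congr 1
    funext p
    exact eval_X (f := v) (Sum.inl p)
  have hker : Ideal.span S ≤ RingHom.ker ε := by
    rw [Ideal.span_le]
    rintro s (((rfl | rfl) | ⟨i, hi, rfl⟩) | ⟨l, hl, rfl⟩)
    · show ε (x' j - 1) = 0
      rw [map_sub, map_one, show ε (x' j) = x j from eval_X (f := v) (Sum.inr (Sum.inl j)), hxj, sub_self]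
    · show ε (c' i₀ - 1) = 0
      rw [map_sub, map_one, show ε (c' i₀) = c i₀ from eval_X (f := v) (Sum.inr (Sum.inr i₀)), hci, sub_self]
    · show ε _ = 0
      rw [hev, hform]; exact hF i hi
    · show ε _ = 0
      simp only [map_sum, map_mul, hev, ← pderiv_map, hform]
      refine (Finset.sum_congr rfl fun i _ => ?_).trans (hdep l hl)
      rw [show ε (c' i) = c i from eval_X (f := v) (Sum.inr (Sum.inr i))]
  have h1 : ι g ∈ Ideal.span S := Ideal.Quotient.eq_zero_iff_mem.1 hg
  have h2 : eval v (rename Sum.inl g) = 0 := hker h1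
  rwa [eval_rename] at h2

/-- Over an infinite field there are forms with all common zero loci transversal. -/
theorem exists_good_coeff (k : Type u) [Field k] [Infinite k] (hd : ∀ i, 0 < d i) :
    ∃ a : Par n d → k, ∀ (T : Finset (Fin m)) (x : Fin (n + 1) → k) (j : Fin (n + 1)), x j ≠ 0 →
      (∀ i ∈ T, eval x (form d a i) = 0) → ∀ c : Fin m → k,
        (∀ l, l ≠ j → ∑ i ∈ T, c i * eval x (pderiv l (form d a i)) = 0) → ∀ i ∈ T, c i = 0 := by
  classical
  choose g hg0 hg using fun (q : {q : Finset (Fin m) × Fin m // q.2 ∈ q.1}) (j : Fin (n + 1)) =>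
    exists_nondegenerate (n := n) d k hd q.1.1 q.1.2 q.2 j
  let G : MvPolynomial (Par n d) k := ∏ q, ∏ j, g q j
  have hG : G ≠ 0 := Finset.prod_ne_zero_iff.2 fun q _ => Finset.prod_ne_zero_iff.2 fun j _ => hg0 q j
  obtain ⟨a, ha⟩ : ∃ a, eval a G ≠ 0 := by
    by_contra! h
    exact hG (MvPolynomial.funext fun a => by rw [h a, map_zero])
  refine ⟨a, fun T x j hxj hF c hdep i₀ hi₀ => ?_⟩
  by_contra hc
  apply ha
  have hscale : ∀ {M : ℕ} {p : MvPolynomial (Fin (n + 1)) k}, p.IsHomogeneous M →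
      eval (fun l => (x j)⁻¹ * x l) p = (x j)⁻¹ ^ M * eval x p := by
    intro M p hp
    rw [eval_eq, eval_eq, Finset.mul_sum]
    refine Finset.sum_congr rfl fun e he => ?_
    have hdeg := hp (mem_support_iff.1 he)
    simp only [mul_pow, Finset.prod_mul_distrib, Finset.prod_pow_eq_pow_sum]
    rw [show ∑ l ∈ e.support, e l = M by
      rw [← hdeg]; simp [Finsupp.weight_apply, Finsupp.sum]]
    ring
  have h0 : eval a (g ⟨(T, i₀), hi₀⟩ j) = 0 := by
    refine hg ⟨(T, i₀), hi₀⟩ j a (fun l => (x j)⁻¹ * x l)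
      (fun i => c i * (c i₀)⁻¹ * (x j) ^ (d i - 1) * ((x j) ^ (d i₀ - 1))⁻¹) ?_ ?_ (fun i hi => ?_) fun l hl => ?_
    · exact inv_mul_cancel₀ hxj
    · field_simp
    · rw [hscale (isHomogeneous_form d a i), hF i hi, mul_zero]
    · have hterm : ∀ i ∈ T,
          c i * (c i₀)⁻¹ * x j ^ (d i - 1) * (x j ^ (d i₀ - 1))⁻¹ *
            eval (fun l => (x j)⁻¹ * x l) (pderiv l (form d a i)) =
          ((c i₀)⁻¹ * (x j ^ (d i₀ - 1))⁻¹) * (c i * eval x (pderiv l (form d a i))) := by
        intro i _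
        rw [hscale ((isHomogeneous_form d a i).pderiv), inv_pow]
        field_simp
      rw [Finset.sum_congr rfl hterm, ← Finset.mul_sum, hdep l hl, mul_zero]
  rw [map_prod]
  refine Finset.prod_eq_zero (Finset.mem_univ (⟨(T, i₀), hi₀⟩ : {q : Finset (Fin m) × Fin m // q.2 ∈ q.1})) ?_
  rw [map_prod]
  exact Finset.prod_eq_zero (Finset.mem_univ j) h0

end Groth.Agent.CIBert
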