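import Mathlib
import Groth.Agent.CIBert.Generic
import Groth.Agent.S5779
import Groth.Agent.RegLoc6.Serre

/-!
# Transversal zero loci are regular
-/

set_option autoImplicit false
set_option linter.style.haveILetI false

universe u

open MvPolynomial

namespace Groth.Agent.CIBert

/-- Localization commutes with quotients. -/
theorem isLocalization_quot {R : Type u} [CommRing R] (I p : Ideal R) [p.IsPrime] (hI : I ≤ p)
    [(p.map (Ideal.Quotient.mk I)).IsPrime] :
    IsLocalization.AtPrime (Localization.AtPrime p ⧸ I.map (algebraMap R (Localization.AtPrime p)))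
      (p.map (Ideal.Quotient.mk I)) := by
  have hqc : (p.map (Ideal.Quotient.mk I)).comap (Ideal.Quotient.mk I) = p :=
    Ideal.comap_map_of_surjective' _ Ideal.Quotient.mk_surjective p |>.trans
      (by rw [Ideal.mk_ker, sup_eq_left]; exact hI)
  have hM : Algebra.algebraMapSubmonoid (R ⧸ I) p.primeCompl =
      (p.map (Ideal.Quotient.mk I)).primeCompl := by
    ext y
    constructor
    · rintro ⟨a, ha, rfl⟩ hmem
      exact ha (hqc.le (Ideal.mem_comap.2 hmem))
    · intro hy
      obtain ⟨a, rfl⟩ := Ideal.Quotient.mk_surjective y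
      exact ⟨a, fun ha => hy (Ideal.mem_map_of_mem _ ha), rfl⟩
  have := (inferInstance : IsLocalization (Algebra.algebraMapSubmonoid (R ⧸ I) p.primeCompl)
      (Localization.AtPrime p ⧸ I.map (algebraMap R (Localization.AtPrime p))))
  rwa [hM] at this

theorem isPrime_map_mk {R : Type u} [CommRing R] (I p : Ideal R) [p.IsPrime] (hI : I ≤ p) :
    (p.map (Ideal.Quotient.mk I)).IsPrime :=
  Ideal.map_isPrime_of_surjective Ideal.Quotient.mk_surjective (by rwa [Ideal.mk_ker])

/-- The localization at a smaller prime. -/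
theorem regular_localization_of_le {B L : Type u} [CommRing B] [CommRing L] [Algebra B L] (P : Ideal B)
    [P.IsPrime] [IsLocalization.AtPrime L P] [IsRegularLocalRing L] (Q : Ideal B) [Q.IsPrime] (hQP : Q ≤ P) :
    IsRegularLocalRing (Localization.AtPrime Q) := by
  have hdisj : Disjoint (P.primeCompl : Set B) (Q : Set B) :=
    Set.disjoint_left.2 fun z hz hzQ => hz (hQP hzQ)
  haveI hp : (Q.map (algebraMap B L)).IsPrime :=
    IsLocalization.isPrime_of_isPrime_disjoint P.primeCompl L Q ‹_› hdisj
  have hc : (Q.map (algebraMap B L)).comap (algebraMap B L) = Q :=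
    IsLocalization.comap_map_of_isPrime_disjoint P.primeCompl L ‹_› hdisj
  haveI := RegLoc6.isRegularLocalRing_localization L (Q.map (algebraMap B L))
  have h := IsLocalization.isLocalization_isLocalization_atPrime_isLocalization P.primeCompl
    (Localization.AtPrime (Q.map (algebraMap B L))) (Q.map (algebraMap B L))
  have h' : IsLocalization.AtPrime (Localization.AtPrime (Q.map (algebraMap B L))) Q := by
    change IsLocalization Q.primeCompl _
    convert h using 2
    ext z
    exact SetLike.ext_iff.1 hc.symm z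
  exact IsRegularLocalRing.of_ringEquiv
    (IsLocalization.algEquiv Q.primeCompl (Localization.AtPrime (Q.map (algebraMap B L))) (Localization.AtPrime Q)).toRingEquiv

variable {k : Type u} [Field k] {n q : ℕ}

/-- The maximal ideal of a rational point. -/
noncomputable abbrev pointIdeal (x : Fin (n + 1) → k) : Ideal (MvPolynomial (Fin (n + 1)) k) :=
  RingHom.ker (eval x)

instance (x : Fin (n + 1) → k) : (pointIdeal x).IsMaximal :=
  RingHom.ker_isMaximal_of_surjective _ (fun c => ⟨C c, eval_C c⟩)

theorem eval_pderiv_eq_zero {x : Fin (n + 1) → k} {p : MvPolynomial (Fin (n + 1)) k} (l : Fin (n + 1))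
    (hp : p ∈ pointIdeal x ^ 2) : eval x (pderiv l p) = 0 := by
  rw [pow_two] at hp
  induction hp using Submodule.mul_induction_on' with
  | mem_mul_mem a ha b hb =>
    rw [RingHom.mem_ker] at ha hb
    rw [Derivation.leibniz]
    simp [ha, hb]
  | add a _ b _ ha hb => rw [map_add, map_add, ha, hb, add_zero]

theorem linearIndependent_toCotangent {S : Type u} [CommRing S] [IsDomain S] [Algebra k S] (M : Ideal S)
    [M.IsMaximal] (hM : ∀ p : S, ∃ c : k, p - algebraMap k S c ∈ M) (f : Fin q → S) (hfM : ∀ i, f i ∈ M)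
    (hind : ∀ c : Fin q → k, ∑ i, algebraMap k S (c i) * f i ∈ M ^ 2 → ∀ i, c i = 0)
    (y : Fin q → IsLocalRing.maximalIdeal (Localization.AtPrime M))
    (hy : ∀ i, (y i : Localization.AtPrime M) = algebraMap S (Localization.AtPrime M) (f i)) :
    LinearIndependent (IsLocalRing.ResidueField (Localization.AtPrime M))
      (fun i => (IsLocalRing.maximalIdeal (Localization.AtPrime M)).toCotangent (y i)) := by
  classical
  let R := Localization.AtPrime M
  have hne : ∀ c : k, c ≠ 0 → algebraMap k S c ∉ M := fun c hc h =>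
    (inferInstance : M.IsMaximal).ne_top (Ideal.eq_top_of_isUnit_mem M h (hc.isUnit.map _))
  have hred : ∀ p : S, ∀ c : k, p - algebraMap k S c ∈ M →
      IsLocalRing.residue R (algebraMap S R p) = IsLocalRing.residue R (algebraMap S R (algebraMap k S c)) := by
    intro p c h
    rw [← sub_eq_zero, ← map_sub, ← map_sub, IsLocalRing.residue_eq_zero_iff,
      IsLocalization.AtPrime.to_map_mem_maximal_iff R M]
    exact h
  have hres : ∀ g : IsLocalRing.ResidueField R,
      ∃ c : k, g = IsLocalRing.residue R (algebraMap S R (algebraMap k S c)) := by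
    intro g
    obtain ⟨r, rfl⟩ := Ideal.Quotient.mk_surjective g
    obtain ⟨⟨a, s⟩, hrs⟩ := IsLocalization.surj M.primeCompl r
    obtain ⟨ca, hca⟩ := hM a
    obtain ⟨cs, hcs⟩ := hM (s : S)
    have hcs0 : cs ≠ 0 := fun h => s.2 (by rw [h, map_zero, sub_zero] at hcs; exact hcs)
    refine ⟨ca / cs, ?_⟩
    change IsLocalRing.residue R r = _
    have h1 := congrArg (IsLocalRing.residue R) hrs
    rw [map_mul, hred _ _ hcs, hred _ _ hca] at h1
    have hnz : IsLocalRing.residue R (algebraMap S R (algebraMap k S cs)) ≠ 0 := by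
      rw [ne_eq, IsLocalRing.residue_eq_zero_iff, IsLocalization.AtPrime.to_map_mem_maximal_iff R M]
      exact hne cs hcs0
    refine mul_right_cancel₀ hnz (h1.trans ?_)
    rw [← map_mul, ← map_mul, ← map_mul, div_mul_cancel₀ _ hcs0]
  rw [Fintype.linearIndependent_iff]
  intro g hg
  choose c hc using fun i => hres (g i)
  suffices h : ∀ i, c i = 0 by intro i; rw [hc, h, map_zero, map_zero, map_zero]
  refine hind c ?_
  have h1 : (IsLocalRing.maximalIdeal R).toCotangent (∑ i, algebraMap S R (algebraMap k S (c i)) • y i) = 0 := by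
    rw [map_sum, ← hg]
    refine Finset.sum_congr rfl fun i _ => ?_
    rw [map_smul, hc]
    exact (IsScalarTower.algebraMap_smul (IsLocalRing.ResidueField R) (algebraMap S R (algebraMap k S (c i)))
      ((IsLocalRing.maximalIdeal R).toCotangent (y i))).symm
  rw [Ideal.toCotangent_eq_zero] at h1
  have h2 : algebraMap S R (∑ i, algebraMap k S (c i) * f i) ∈ IsLocalRing.maximalIdeal R ^ 2 := by
    convert h1 using 1
    simp [hy, map_sum, map_mul, Algebra.smul_def, ← IsScalarTower.algebraMap_apply, R]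
  rw [← IsLocalization.AtPrime.map_eq_maximalIdeal M R, ← Ideal.map_pow,
    IsLocalization.mem_map_algebraMap_iff M.primeCompl R] at h2
  obtain ⟨⟨⟨b, hb⟩, ⟨s, hs⟩⟩, hbs⟩ := h2
  rw [← map_mul] at hbs
  have hps : (∑ i, algebraMap k S (c i) * f i) * s ∈ M ^ 2 := by
    rw [IsLocalization.injective R M.primeCompl_le_nonZeroDivisors hbs]; exact hb
  obtain ⟨t, μ, hμ, htμ⟩ := (inferInstance : M.IsMaximal).exists_inv hs
  generalize hp : ∑ i, algebraMap k S (c i) * f i = p at hps ⊢
  rw [show p = t * (p * s) + μ * p by linear_combination (-p) * htμ]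
  refine add_mem (Ideal.mul_mem_left _ _ hps) ?_
  rw [pow_two]
  exact Ideal.mul_mem_mul hμ (hp ▸ sum_mem fun i _ => Ideal.mul_mem_left _ _ (hfM i))

theorem regular_quotient_of_indep {S : Type u} [CommRing S] [IsDomain S] [IsNoetherianRing S] [Algebra k S] (M : Ideal S)
    [M.IsMaximal] [IsRegularLocalRing (Localization.AtPrime M)]
    (hM : ∀ p : S, ∃ c : k, p - algebraMap k S c ∈ M) (f : Fin q → S) (hfM : ∀ i, f i ∈ M)
    (hind : ∀ c : Fin q → k, ∑ i, algebraMap k S (c i) * f i ∈ M ^ 2 → ∀ i, c i = 0) :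
    IsRegularLocalRing (Localization.AtPrime M ⧸ (Ideal.span (Set.range f)).map (algebraMap S (Localization.AtPrime M))) := by
  let y : Fin q → IsLocalRing.maximalIdeal (Localization.AtPrime M) := fun i =>
    ⟨algebraMap S (Localization.AtPrime M) (f i),
      (IsLocalization.AtPrime.to_map_mem_maximal_iff (Localization.AtPrime M) M (f i)).2 (hfM i)⟩
  have h5 := (Groth.Agent.S5779.result (Localization.AtPrime M) q y).1.1
    ⟨inferInstance, linearIndependent_toCotangent M hM f hfM hind y fun _ => rfl⟩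
  have hJ : Ideal.span (Set.range fun i => (y i : Localization.AtPrime M)) =
      (Ideal.span (Set.range f)).map (algebraMap S (Localization.AtPrime M)) := by
    rw [Ideal.map_span, ← Set.range_comp]; rfl
  exact hJ ▸ h5.2

theorem regular_at_of_indep {S : Type u} [CommRing S] [IsDomain S] [IsNoetherianRing S] [Algebra k S] (M : Ideal S)
    [M.IsMaximal] [IsRegularLocalRing (Localization.AtPrime M)]
    (hM : ∀ p : S, ∃ c : k, p - algebraMap k S c ∈ M) (f : Fin q → S) (hfM : ∀ i, f i ∈ M)
    (hind : ∀ c : Fin q → k, ∑ i, algebraMap k S (c i) * f i ∈ M ^ 2 → ∀ i, c i = 0)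
    (Q : Ideal (S ⧸ Ideal.span (Set.range f))) [Q.IsPrime]
    (hQ : Q.comap (Ideal.Quotient.mk _) ≤ M) : IsRegularLocalRing (Localization.AtPrime Q) := by
  have hIM : Ideal.span (Set.range f) ≤ M := Ideal.span_le.2 (by rintro _ ⟨i, rfl⟩; exact hfM i)
  haveI := regular_quotient_of_indep M hM f hfM hind
  haveI := isPrime_map_mk (Ideal.span (Set.range f)) M hIM
  haveI := isLocalization_quot (Ideal.span (Set.range f)) M hIM
  refine regular_localization_of_le
    (L := Localization.AtPrime M ⧸ (Ideal.span (Set.range f)).map (algebraMap S (Localization.AtPrime M)))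
    (M.map (Ideal.Quotient.mk (Ideal.span (Set.range f)))) Q ?_
  rw [← Ideal.map_comap_of_surjective _ Ideal.Quotient.mk_surjective Q]
  exact Ideal.map_mono hQ

theorem regular_of_transversal (f : Fin q → MvPolynomial (Fin (n + 1)) k) (x : Fin (n + 1) → k)
    (hf : ∀ i, eval x (f i) = 0)
    (hind : ∀ c : Fin q → k, (∀ l, ∑ i, c i * eval x (pderiv l (f i)) = 0) → ∀ i, c i = 0)
    (Q : Ideal (MvPolynomial (Fin (n + 1)) k ⧸ Ideal.span (Set.range f))) [Q.IsPrime]
    (hQ : Q.comap (Ideal.Quotient.mk _) ≤ pointIdeal x) : IsRegularLocalRing (Localization.AtPrime Q) := by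
  haveI : IsRegularLocalRing (Localization.AtPrime (pointIdeal x)) :=
    IsRegularRing.isRegularLocalRing_localization (pointIdeal x)
  refine regular_at_of_indep (k := k) (pointIdeal x) (fun p => ⟨eval x p, ?_⟩) f
    (fun i => RingHom.mem_ker.2 (hf i)) (fun c hc => hind c fun l => ?_) Q hQ
  · rw [RingHom.mem_ker, map_sub, algebraMap_eq, eval_C, sub_self]
  · have h := eval_pderiv_eq_zero l hc
    simpa [algebraMap_eq, Derivation.leibniz] using h

variable {m : ℕ} {d : Fin m → ℕ}

theorem exists_point [IsAlgClosed k] (P : Ideal (MvPolynomial (Fin (n + 1)) k)) [P.IsPrime]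
    (j : Fin (n + 1)) (hj : X j ∉ P) : ∃ x : Fin (n + 1) → k, P ≤ pointIdeal x ∧ x j ≠ 0 := by
  obtain ⟨M, ⟨hPM, hM⟩, hjM⟩ : ∃ M, (P ≤ M ∧ M.IsMaximal) ∧ X j ∉ M := by
    by_contra! h
    apply hj
    have : P.jacobson = P := by
      rw [← Ideal.radical_eq_jacobson, (‹P.IsPrime›).radical]
    rw [← this, Ideal.jacobson, Submodule.mem_sInf]
    exact fun M hM => h M hM
  obtain ⟨x, rfl⟩ := (isMaximal_iff_eq_vanishingIdeal_singleton (K := k)).1 hM
  refine ⟨x, fun p hp => RingHom.mem_ker.2 ?_, fun h0 => hjM ?_⟩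
  · simpa [mem_vanishingIdeal_singleton_iff, aeval_eq_eval] using hPM hp
  · simp [mem_vanishingIdeal_singleton_iff, aeval_eq_eval, h0]

/-- Regularity away from the vertex, for a subfamily of generic forms. -/
theorem regular_of_good [IsAlgClosed k] {a : Par n d → k}
    (ha : ∀ (T : Finset (Fin m)) (x : Fin (n + 1) → k) (j : Fin (n + 1)), x j ≠ 0 →
      (∀ i ∈ T, eval x (form d a i) = 0) → ∀ c : Fin m → k,
        (∀ l, l ≠ j → ∑ i ∈ T, c i * eval x (pderiv l (form d a i)) = 0) → ∀ i ∈ T, c i = 0)
    (e : Fin q → Fin m) (he : Function.Injective e) (f : Fin q → MvPolynomial (Fin (n + 1)) k)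
    (hf : ∀ i, f i = form d a (e i))
    (Q : Ideal (MvPolynomial (Fin (n + 1)) k ⧸ Ideal.span (Set.range f))) [Q.IsPrime]
    (j : Fin (n + 1)) (hj : Ideal.Quotient.mk (Ideal.span (Set.range f)) (X j) ∉ Q) :
    IsRegularLocalRing (Localization.AtPrime Q) := by
  classical
  obtain ⟨x, hx, hxj⟩ := exists_point (Q.comap (Ideal.Quotient.mk _)) j hj
  have hfx : ∀ i, eval x (f i) = 0 := fun i => RingHom.mem_ker.1 (hx (by
    rw [Ideal.mem_comap, Ideal.Quotient.eq_zero_iff_mem.2
      (Ideal.subset_span (show f i ∈ Set.range f from ⟨i, rfl⟩))]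
    exact zero_mem Q))
  refine regular_of_transversal f x hfx (fun c hc i => ?_) Q hx
  have h := ha (Finset.univ.image e) x j hxj (by
    intro i' hi'
    obtain ⟨i, -, rfl⟩ := Finset.mem_image.1 hi'
    rw [← hf]; exact hfx i) (Function.extend e c 0) (fun l _ => ?_) (e i) (Finset.mem_image_of_mem _ (Finset.mem_univ i))
  · rwa [he.extend_apply] at h
  · rw [Finset.sum_image he.injOn]
    simpa [he.extend_apply, ← hf] using hc l

end Groth.Agent.CIBert
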