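import Mathlib

/-!
# A local ring of depth at least two whose punctured spectrum has domain stalks is a domain
-/

set_option autoImplicit false
set_option linter.style.haveILetI false

universe u

namespace Groth.Agent.CIBert

variable {A : Type u} [CommRing A]

/-- The kernel of localization at `p`, as a set. -/
theorem eq_of_minimal_of_le {p P Q : Ideal A} [p.IsPrime] [IsDomain (Localization.AtPrime p)]
    (hP : P ∈ minimalPrimes A) (hQ : Q ∈ minimalPrimes A) (hPp : P ≤ p) (hQp : Q ≤ p) : P = Q := by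
  let K : Ideal A := RingHom.ker (algebraMap A (Localization.AtPrime p))
  haveI hK : K.IsPrime := RingHom.ker_isPrime _
  have h : ∀ {P : Ideal A}, P ∈ minimalPrimes A → P ≤ p → K = P := by
    intro P hP hPp
    have hle : K ≤ P := fun x hx => by
      rw [RingHom.mem_ker, IsLocalization.map_eq_zero_iff p.primeCompl] at hx
      obtain ⟨s, hs⟩ := hx
      exact (hP.1.1.mem_or_mem (hs ▸ P.zero_mem)).resolve_left fun h => s.2 (hPp h)
    exact le_antisymm hle (hP.2 ⟨hK, bot_le⟩ hle)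
  exact (h hP hPp).symm.trans (h hQ hQp)

theorem isDomain_of_punctured [IsNoetherianRing A] [IsLocalRing A]
    (hp : ∀ p : Ideal A, ∀ [p.IsPrime], p ≠ IsLocalRing.maximalIdeal A → IsDomain (Localization.AtPrime p))
    (y₁ y₂ : A) (hy₁ : y₁ ∈ IsLocalRing.maximalIdeal A) (hy₂ : y₂ ∈ IsLocalRing.maximalIdeal A)
    (h₁ : IsSMulRegular A y₁)
    (h₂ : ∀ (N : ℕ) (a : A), 0 < N → y₂ ^ N * a ∈ Ideal.span {y₁ ^ N} → a ∈ Ideal.span {y₁ ^ N}) :
    IsDomain A := by
  classical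
  have h₁N : ∀ (N : ℕ) (a : A), y₁ ^ N * a = 0 → a = 0 := fun N a h =>
    (h₁.pow N) (show y₁ ^ N • a = y₁ ^ N • 0 by rw [smul_zero, smul_eq_mul, h])
  haveI hred : IsReduced A := by
    refine ⟨fun a ha => ?_⟩
    by_contra ha0
    let J : Ideal A := (Submodule.span A {a}).annihilator
    have hJmem : ∀ t, t ∈ J ↔ t * a = 0 := fun t => Submodule.mem_annihilator_span_singleton a t
    have hy : y₁ ∈ J.radical := by
      rw [Ideal.radical_eq_sInf, Submodule.mem_sInf]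
      rintro p ⟨hJp, hpp⟩
      by_contra hyp
      haveI := hpp
      have hne : p ≠ IsLocalRing.maximalIdeal A := fun e => hyp (e ▸ hy₁)
      haveI := hp p hne
      obtain ⟨s, hs⟩ := (IsLocalization.map_eq_zero_iff (Ideal.primeCompl p) (Localization.AtPrime p) a).1
        ((ha.map (algebraMap A (Localization.AtPrime p))).eq_zero)
      exact s.2 (hJp ((hJmem _).2 hs))
    obtain ⟨N, hN⟩ := hy
    exact ha0 (h₁N N a ((hJmem _).1 hN))
  by_cases hbot : ∀ P ∈ minimalPrimes A, ∀ Q ∈ minimalPrimes A, P = Q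
  · obtain ⟨P, hP⟩ : (minimalPrimes A).Nonempty := Set.nonempty_coe_sort.1 (Ideal.nonempty_minimalPrimes (bot_ne_top (α := Ideal A)))
    haveI : P.IsPrime := hP.1.1
    have hP0 : P = ⊥ := by
      rw [eq_bot_iff]
      intro x hx
      have : x ∈ nilradical A := by
        rw [nilradical, ← Ideal.sInf_minimalPrimes, Submodule.mem_sInf]
        intro Q hQ
        rw [hbot Q hQ P hP]
        exact hx
      simpa [nilradical_eq_zero A] using this
    haveI : (⊥ : Ideal A).IsPrime := hP0 ▸ this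
    exact IsDomain.of_bot_isPrime A
  exfalso
  push Not at hbot
  obtain ⟨P, hP, Q₀, hQ₀, hne⟩ := hbot
  haveI : P.IsPrime := hP.1.1
  let J : Ideal A := sInf (minimalPrimes A \ {P})
  have hPJ : P ⊓ J = ⊥ := by
    rw [eq_bot_iff]
    intro x hx
    have : x ∈ nilradical A := by
      rw [nilradical, ← Ideal.sInf_minimalPrimes, Submodule.mem_sInf]
      intro Q hQ
      by_cases h : Q = P
      · exact h ▸ hx.1
      · exact (Submodule.mem_sInf.1 hx.2) Q ⟨hQ, h⟩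
    simpa [nilradical_eq_zero A] using this
  have hfin : (minimalPrimes A \ {P}).Finite := (minimalPrimes.finite_of_isNoetherianRing A).subset Set.sdiff_subset
  have hJP : ∀ p : Ideal A, p.IsPrime → J ≤ p → ∃ Q ∈ minimalPrimes A, Q ≠ P ∧ Q ≤ p := by
    intro p hpp hJp
    obtain ⟨Q, hQ, hQp⟩ : ∃ Q ∈ hfin.toFinset, id Q ≤ p := hpp.inf_le'.1 (by
      refine le_trans (le_of_eq ?_) hJp
      rw [Finset.inf_id_eq_sInf, hfin.coe_toFinset])
    rw [hfin.mem_toFinset] at hQ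
    exact ⟨Q, hQ.1, hQ.2, hQp⟩
  have hmax : IsLocalRing.maximalIdeal A ≤ (P ⊔ J).radical := by
    rw [Ideal.radical_eq_sInf]
    refine le_sInf ?_
    rintro p ⟨hp', hpp⟩
    by_contra hnle
    haveI := hpp
    haveI := hp p (fun e => hnle e.ge)
    obtain ⟨Q, hQ, hQne, hQp⟩ := hJP p hpp (le_sup_right.trans hp')
    exact hQne (eq_of_minimal_of_le hQ hP hQp (le_sup_left.trans hp'))
  obtain ⟨N₁, hN₁⟩ := hmax hy₁
  obtain ⟨N₂, hN₂⟩ := hmax hy₂
  let N := N₁ + N₂ + 1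
  have hx : y₁ ^ N ∈ P ⊔ J := by
    rw [show N = N₁ + (N₂ + 1) by omega, pow_add]; exact Ideal.mul_mem_right _ _ hN₁
  have hz : y₂ ^ N ∈ P ⊔ J := by
    rw [show N = N₂ + (N₁ + 1) by omega, pow_add]; exact Ideal.mul_mem_right _ _ hN₂
  obtain ⟨a, ha, b, hb, hab⟩ := Submodule.mem_sup.1 hx
  have hmul : ∀ p ∈ P, ∀ q ∈ J, p * q = 0 := fun p hp' q hq =>
    (Submodule.mem_bot A).1 (hPJ ▸ (⟨Ideal.mul_mem_right _ _ hp', Ideal.mul_mem_left _ _ hq⟩ : p * q ∈ P ⊓ J))
  obtain ⟨a', ha', b', hb', hab'⟩ := Submodule.mem_sup.1 hz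
  have h3 : y₂ ^ N * a ∈ Ideal.span {y₁ ^ N} := by
    rw [Ideal.mem_span_singleton']
    refine ⟨a', ?_⟩
    rw [← hab, ← hab', mul_add, add_mul, mul_comm b' a, hmul a ha b' hb', hmul a' ha' b hb]
  obtain ⟨c, hc⟩ := Ideal.mem_span_singleton'.1 (h₂ N a (by omega) h3)
  have h4 : (1 - c) * a = c * b := by
    rw [← hab] at hc
    linear_combination -hc
  have h5 : (1 - c) * a = 0 := (Submodule.mem_bot A).1 (hPJ ▸
    (⟨Ideal.mul_mem_left _ _ ha, h4 ▸ Ideal.mul_mem_left _ _ hb⟩ : (1 - c) * a ∈ P ⊓ J))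
  rw [h5] at h4
  have hQ₀J : J ≤ Q₀ := sInf_le ⟨hQ₀, hne.symm⟩
  rcases IsLocalRing.isUnit_or_isUnit_one_sub_self c with hu | hu
  · have hb0 : b = 0 := hu.mul_right_eq_zero.1 h4.symm
    rw [hb0, add_zero] at hab
    obtain ⟨q, hqJ, hqP⟩ : ∃ q, q ∈ J ∧ q ∉ P := by
      by_contra! h
      obtain ⟨Q, hQ, hQne, hQP⟩ := hJP P this h
      exact hQne (le_antisymm hQP (hP.2 ⟨hQ.1.1, bot_le⟩ hQP))
    exact hqP (by rw [h₁N N q (hab ▸ hmul a ha q hqJ)]; exact zero_mem P)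
  · have ha0 : a = 0 := hu.mul_right_eq_zero.1 h5
    rw [ha0, zero_add] at hab
    obtain ⟨q, hqP, hqQ⟩ : ∃ q, q ∈ P ∧ q ∉ Q₀ := by
      by_contra! h
      exact hne (le_antisymm h (hQ₀.2 ⟨hP.1.1, bot_le⟩ h))
    exact hqQ (by rw [h₁N N q (by rw [← hab, mul_comm, hmul q hqP b hb])]; exact zero_mem Q₀)

end Groth.Agent.CIBert
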