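import Mathlib
import Groth.Agent.CIBert.Basic
import Groth.Agent.CIBert.Local
import Groth.Agent.LC.Sop
import Groth.Agent.AvramovLib.Ps
import Groth.Agent.SmoothDim.Basic
import Groth.Agent.FormCat.Equidim

/-!
# The vertex of the cone over a generic complete intersection
-/

set_option autoImplicit false
set_option linter.style.haveILetI false
set_option maxHeartbeats 1000000

universe u

open MvPolynomial RingTheory.Sequence

namespace Groth.Agent.CIBert

variable {k : Type u} [Field k] {n : ℕ}

/-- The vertex. -/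
noncomputable abbrev vertex (k : Type u) [Field k] (n : ℕ) : Ideal (MvPolynomial (Fin (n + 1)) k) :=
  pointIdeal (0 : Fin (n + 1) → k)

theorem mem_vertex_iff {p : MvPolynomial (Fin (n + 1)) k} : p ∈ vertex k n ↔ coeff 0 p = 0 := by
  rw [RingHom.mem_ker, eval_zero, constantCoeff_eq]

theorem le_of_forall_X_mem {P : Ideal (MvPolynomial (Fin (n + 1)) k)} (h : ∀ j, X j ∈ P) : vertex k n ≤ P := by
  intro p hp
  refine Ideal.span_le.2 (show X '' Set.univ ⊆ (P : Set _) by rintro _ ⟨j, -, rfl⟩; exact h j) ?_
  rw [mem_ideal_span_X_image]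
  intro e he
  by_contra! hc
  exact mem_support_iff.1 he (by rw [show e = 0 from Finsupp.ext fun i => hc i trivial]; exact mem_vertex_iff.1 hp)

theorem height_vertex : (vertex k n).height = (n + 1 : ℕ) := by
  have e := PrimeSpectrum.height_eq_orderHeight (⟨vertex k n, inferInstance⟩ : PrimeSpectrum _)
  refine e.trans ?_
  exact SmoothDim.height_maximal_mvPolynomial k (n + 1) ⟨vertex k n, inferInstance⟩
    (inferInstance : (vertex k n).IsMaximal)

theorem ringKrullDim_vertex : ringKrullDim (Localization.AtPrime (vertex k n)) = ((n + 1 : ℕ) : WithBot ℕ∞) := by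
  rw [IsLocalization.AtPrime.ringKrullDim_eq_height (vertex k n), height_vertex]
  rfl

variable {m : ℕ} {d : Fin m → ℕ}

/-- The generic forms have only the vertex as common zero. -/
theorem radical_span_eq_vertex [IsAlgClosed k] (hm : n < m) (hd : ∀ i, 0 < d i) {a : Par n d → k}
    (ha : ∀ (T : Finset (Fin m)) (x : Fin (n + 1) → k) (j : Fin (n + 1)), x j ≠ 0 →
      (∀ i ∈ T, eval x (form d a i) = 0) → ∀ c : Fin m → k,
        (∀ l, l ≠ j → ∑ i ∈ T, c i * eval x (pderiv l (form d a i)) = 0) → ∀ i ∈ T, c i = 0)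
    (N : Fin m → ℕ) (hN : ∀ i, 0 < N i) :
    (Ideal.span (Set.range fun i => form d a i ^ N i)).radical = vertex k n := by
  classical
  have hmem : ∀ i, form d a i ∈ vertex k n := fun i => mem_vertex_iff.2
    ((isHomogeneous_form d a i).coeff_eq_zero (by simpa using (hd i).ne))
  refine le_antisymm ?_ fun p hp => ?_
  · refine (Ideal.radical_mono ?_).trans ((inferInstance : (vertex k n).IsMaximal).isPrime.radical).le
    rw [Ideal.span_le]
    rintro _ ⟨i, rfl⟩
    exact Ideal.pow_mem_of_mem _ (hmem i) _ (hN i)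
  rw [← vanishingIdeal_zeroLocus_eq_radical (K := k), mem_vanishingIdeal_iff]
  intro x hx
  have hx0 : x = 0 := by
    by_contra hne
    obtain ⟨j, hj⟩ := Function.ne_iff.1 hne
    have hz : ∀ i, eval x (form d a i) = 0 := fun i => by
      have := (mem_zeroLocus_iff.1 hx) _ (Ideal.subset_span ⟨i, rfl⟩)
      simpa [aeval_eq_eval, (hN i).ne'] using this
    let L := {l : Fin (n + 1) // l ≠ j}
    let φ : (Fin m → k) →ₗ[k] (L → k) := LinearMap.pi fun l => ∑ i, eval x (pderiv l.1 (form d a i)) • LinearMap.proj i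
    obtain ⟨c, hc, hc0⟩ : ∃ c, φ c = 0 ∧ c ≠ 0 := by
      by_contra! h
      have := LinearMap.finrank_le_finrank_of_injective ((injective_iff_map_eq_zero φ).2 h)
      simp [L, Fintype.card_subtype_compl] at this
      omega
    refine hc0 (funext fun i => ha Finset.univ x j hj (fun i _ => hz i) c (fun l hl => ?_) i (Finset.mem_univ i))
    have := congrFun hc ⟨l, hl⟩
    simpa [φ, mul_comm] using this
  subst hx0
  simpa [aeval_eq_eval, constantCoeff_eq] using mem_vertex_iff.1 hp

/-- A homogeneous ideal is saturated with respect to polynomials with nonzero constant term. -/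
theorem mem_of_mul_mem {I : Ideal (MvPolynomial (Fin (n + 1)) k)}
    (hI : ∀ (p : MvPolynomial (Fin (n + 1)) k), p ∈ I → ∀ N, homogeneousComponent N p ∈ I)
    {s p : MvPolynomial (Fin (n + 1)) k} (hs : s ∉ vertex k n) (h : s * p ∈ I) : p ∈ I := by
  classical
  rw [mem_vertex_iff] at hs
  have key : ∀ N, ∀ M < N, homogeneousComponent M p ∈ I := by
    intro N
    induction N with
    | zero => intro M hM; omega
    | succ N ih =>
      intro M hM
      rcases Nat.lt_succ_iff_lt_or_eq.1 hM with hM | rfl
      · exact ih M hM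
      let low := ∑ i ∈ Finset.range M, homogeneousComponent i p
      have hq : s * (p - low) ∈ I := by
        rw [mul_sub]; exact sub_mem h (Ideal.mul_mem_left _ _ (sum_mem fun i hi => ih i (Finset.mem_range.1 hi)))
      have hlow : ∀ b : Fin (n + 1) →₀ ℕ, coeff b (p - low) = if b.degree < M then 0 else coeff b p := by
        intro b
        simp only [coeff_sub, low, coeff_sum, coeff_homogeneousComponent, Finset.sum_ite_eq, Finset.mem_range]
        split_ifs <;> simp
      have e : homogeneousComponent M (s * (p - low)) = C (coeff 0 s) * homogeneousComponent M p := by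
        ext b
        rw [coeff_C_mul, coeff_homogeneousComponent, coeff_homogeneousComponent]
        by_cases hb : b.degree = M
        · rw [if_pos hb, if_pos hb, coeff_mul, Finset.sum_eq_single (0, b)]
          · rw [hlow]; dsimp only; rw [if_neg (by omega)]
          · rintro ⟨u, v⟩ huv hne
            replace huv : u + v = b := Finset.HasAntidiagonal.mem_antidiagonal.1 huv
            rw [hlow, if_pos, mul_zero]
            have hu : u ≠ 0 := fun hu => hne (by subst hu; simp only [zero_add] at huv; rw [huv])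
            have h1 : u.degree + v.degree = M := by rw [← map_add]; simp only [huv]; exact hb
            have h2 : u.degree ≠ 0 := fun h0 => hu ((Finsupp.degree_eq_zero_iff u).1 h0)
            show v.degree < M
            omega
          · intro hnm; exact absurd (Finset.HasAntidiagonal.mem_antidiagonal.2 (zero_add b)) hnm
        · rw [if_neg hb, if_neg hb, mul_zero]
      have h1 := hI _ hq M
      rw [e] at h1
      have h2 := Ideal.mul_mem_left I (C (coeff 0 s)⁻¹) h1
      rwa [← mul_assoc, ← C_mul, inv_mul_cancel₀ hs, C_1, one_mul] at h2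
  rw [← sum_homogeneousComponent p]
  exact sum_mem fun i _ => key (i + 1) i (Nat.lt_succ_self i)

theorem homogeneousComponent_mul' {q M : ℕ} {P : MvPolynomial (Fin (n + 1)) k} (hP : P.IsHomogeneous q)
    (g : MvPolynomial (Fin (n + 1)) k) : ∃ g', homogeneousComponent M (g * P) = g' * P := by
  classical
  refine ⟨∑ i ∈ Finset.range (g.totalDegree + 1), if M = i + q then homogeneousComponent i g else 0, ?_⟩
  conv_lhs => rw [← sum_homogeneousComponent g]
  rw [Finset.sum_mul, map_sum, Finset.sum_mul]
  refine Finset.sum_congr rfl fun i _ => ?_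
  rw [homogeneousComponent_of_mem ((homogeneousComponent_isHomogeneous i g).mul hP), ite_mul, zero_mul]

theorem component_mem_span {q : ℕ} {f : Fin q → MvPolynomial (Fin (n + 1)) k} {d : Fin q → ℕ}
    (hf : ∀ i, (f i).IsHomogeneous (d i)) {p : MvPolynomial (Fin (n + 1)) k}
    (hp : p ∈ Ideal.span (Set.range f)) (M : ℕ) : homogeneousComponent M p ∈ Ideal.span (Set.range f) := by
  obtain ⟨c, rfl⟩ := (Ideal.mem_span_range_iff_exists_fun).1 hp
  rw [map_sum]
  refine sum_mem fun i _ => ?_
  obtain ⟨g', hg'⟩ := homogeneousComponent_mul' (M := M) (hf i) (c i)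
  rw [hg']
  exact Ideal.mul_mem_left _ _ (Ideal.subset_span ⟨i, rfl⟩)

/-- The main theorem. -/
theorem exists_complete_intersection [IsAlgClosed k] (r : ℕ) (hr : r < n) (d : Fin r → ℕ) (hd : ∀ i, 0 < d i) :
    ∃ f : Fin r → MvPolynomial (Fin (n + 1)) k,
      (∀ i, (f i).IsHomogeneous (d i)) ∧
      (∀ (i : Fin r) (Q : Ideal (MvPolynomial (Fin (n + 1)) k ⧸ Ideal.span {f i})) [Q.IsPrime],
        (∃ j, Ideal.Quotient.mk (Ideal.span {f i}) (X j) ∉ Q) →
          IsRegularLocalRing (Localization.AtPrime Q)) ∧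
      IsDomain (MvPolynomial (Fin (n + 1)) k ⧸ Ideal.span (Set.range f)) ∧
      (Ideal.span (Set.range f)).height = r ∧
      ∀ (Q : Ideal (MvPolynomial (Fin (n + 1)) k ⧸ Ideal.span (Set.range f))) [Q.IsPrime],
        (∃ j, Ideal.Quotient.mk (Ideal.span (Set.range f)) (X j) ∉ Q) →
          IsRegularLocalRing (Localization.AtPrime Q) := by
  classical
  let d' : Fin (n + 1) → ℕ := fun i => if h : (i : ℕ) < r then d ⟨i, h⟩ else 1
  have hd' : ∀ i, 0 < d' i := fun i => by
    simp only [d']; split_ifs with h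
    · exact hd _
    · exact Nat.one_pos
  obtain ⟨a, ha⟩ := exists_good_coeff (n := n) d' k hd'
  let e : Fin r → Fin (n + 1) := Fin.castLE (by omega)
  have he : Function.Injective e := Fin.castLE_injective _
  let f : Fin r → MvPolynomial (Fin (n + 1)) k := fun i => form d' a (e i)
  have hfh : ∀ i, (f i).IsHomogeneous (d i) := fun i => by
    have h := isHomogeneous_form d' a (e i)
    rwa [show d' (e i) = d i by simp [d', e, i.2]] at h
  have hreg : ∀ (Q : Ideal (MvPolynomial (Fin (n + 1)) k ⧸ Ideal.span (Set.range f))) [Q.IsPrime],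
      (∃ j, Ideal.Quotient.mk (Ideal.span (Set.range f)) (X j) ∉ Q) →
        IsRegularLocalRing (Localization.AtPrime Q) := fun Q _ ⟨j, hj⟩ =>
    regular_of_good ha e he f (fun _ => rfl) Q j hj
  refine ⟨f, hfh, fun i => ?_, ?_⟩
  · have hr1 : Ideal.span (Set.range fun _ : Fin 1 => f i) = Ideal.span {f i} := by rw [Set.range_const]
    rw [← hr1]
    intro Q _ ⟨j, hj⟩
    exact regular_of_good ha (fun _ : Fin 1 => e i) (fun a b _ => Subsingleton.elim a b) _ (fun _ => rfl) Q j hj
  let S := MvPolynomial (Fin (n + 1)) k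
  let I : Ideal S := Ideal.span (Set.range f)
  let R := Localization.AtPrime (vertex k n)
  have hIM : I ≤ vertex k n := Ideal.span_le.2 (by
    rintro _ ⟨i, rfl⟩
    exact mem_vertex_iff.2 ((hfh i).coeff_eq_zero (by simpa using (hd i).ne)))
  haveI hRreg : IsRegularLocalRing R := IsRegularRing.isRegularLocalRing_localization (vertex k n)
  have hCM : LocCoh.IsCohenMacaulayModule R R := (AvramovLib.isCM_of_regular R).supportDim_eq_depth
  -- a system of parameters
  let rs : ℕ → List R := fun N => List.ofFn fun i : Fin (n + 1) =>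
    algebraMap S R (form d' a i ^ (if (i : ℕ) < r then 1 else N))
  have hrs : ∀ N, 0 < N → IsWeaklyRegular R (rs N) := fun N hN => by
    refine LC.isWeaklyRegular_of_sop hCM (n + 1) ringKrullDim_vertex (rs N) (by simp [rs]) ?_
    have hrad := radical_span_eq_vertex (Nat.lt_succ_self n) hd' ha (fun i => if (i : ℕ) < r then 1 else N)
      (fun i => by split_ifs <;> omega)
    have hspan : Ideal.ofList (rs N) = (Ideal.span (Set.range fun i : Fin (n + 1) =>
        form d' a i ^ (if (i : ℕ) < r then 1 else N))).map (algebraMap S R) := by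
      rw [Ideal.map_span, ← Set.range_comp, Ideal.ofList]
      congr 1
      ext z
      simp only [rs, List.mem_ofFn', Set.mem_setOf_eq]
      rfl
    refine le_antisymm ?_ ?_
    · refine (Ideal.radical_mono ?_).trans (IsLocalRing.maximalIdeal.isMaximal R).isPrime.radical.le
      rw [hspan, ← IsLocalization.AtPrime.map_eq_maximalIdeal (vertex k n) R]
      refine Ideal.map_mono (le_trans Ideal.le_radical hrad.le)
    · rw [hspan]
      refine le_trans ?_ (Ideal.map_radical_le _)
      rw [hrad, IsLocalization.AtPrime.map_eq_maximalIdeal (vertex k n) R]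
  have hlen : ∀ N, (rs N).length = n + 1 := fun N => by simp [rs]
  have htake : ∀ N, Ideal.ofList ((rs N).take r) = I.map (algebraMap S R) := fun N => by
    rw [Ideal.map_span, ← Set.range_comp, Ideal.ofList]
    congr 1
    ext z
    constructor
    · intro hz
      obtain ⟨i, hi, rfl⟩ := List.mem_take_iff_getElem.1 hz
      have hi' : i < r := lt_of_lt_of_le hi (min_le_left _ _)
      exact ⟨⟨i, hi'⟩, by simp only [rs, f, List.getElem_ofFn, hi', if_true, pow_one]; rfl⟩
    · rintro ⟨i, rfl⟩
      exact List.mem_take_iff_getElem.2 ⟨i.1, by rw [hlen]; exact lt_min i.2 (by omega),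
        by simp only [rs, f, List.getElem_ofFn, i.2, if_true, pow_one]; rfl⟩
  haveI hpI : (( vertex k n).map (Ideal.Quotient.mk I)).IsPrime := isPrime_map_mk I _ hIM
  haveI hloc := isLocalization_quot I (vertex k n) hIM
  let J := I.map (algebraMap S R)
  let A := R ⧸ J
  haveI : Nontrivial A := Ideal.Quotient.nontrivial_iff.2
    (fun h => (IsLocalRing.maximalIdeal.isMaximal R).ne_top (top_le_iff.1 (h.ge.trans
      ((Ideal.map_mono hIM).trans_eq (IsLocalization.AtPrime.map_eq_maximalIdeal (vertex k n) R)))))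
  haveI : IsLocalRing A := IsLocalRing.of_surjective' (Ideal.Quotient.mk J) Ideal.Quotient.mk_surjective
  let g₁ : Fin (n + 1) := ⟨r, by omega⟩
  let g₂ : Fin (n + 1) := ⟨r + 1, by omega⟩
  let z₁ : R := algebraMap S R (form d' a g₁)
  let z₂ : R := algebraMap S R (form d' a g₂)
  have hgetr : ∀ N, (rs N)[r]'(by rw [hlen]; omega) = z₁ ^ N := fun N => by
    simp only [rs, List.getElem_ofFn, lt_irrefl, if_false, map_pow]; rfl
  have hgetr1 : ∀ N, (rs N)[r + 1]'(by rw [hlen]; omega) = z₂ ^ N := fun N => by
    simp only [rs, List.getElem_ofFn, show ¬ r + 1 < r by omega, if_false, map_pow]; rfl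
  have hzmem : ∀ i, Ideal.Quotient.mk J (algebraMap S R (form d' a i)) ∈ IsLocalRing.maximalIdeal A := fun i => by
    intro hu
    have hz : algebraMap S R (form d' a i) ∈ IsLocalRing.maximalIdeal R :=
      (IsLocalization.AtPrime.to_map_mem_maximal_iff R (vertex k n) _).2
        (mem_vertex_iff.2 ((isHomogeneous_form d' a i).coeff_eq_zero (by simpa using (hd' i).ne)))
    obtain ⟨w, hw⟩ := hu.exists_right_inv
    obtain ⟨w, rfl⟩ := Ideal.Quotient.mk_surjective w
    have h1 : algebraMap S R (form d' a i) * w - 1 ∈ J := by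
      rw [← Ideal.Quotient.eq, map_mul, map_one, hw]
    have h2 : J ≤ IsLocalRing.maximalIdeal R :=
      (Ideal.map_mono hIM).trans_eq (IsLocalization.AtPrime.map_eq_maximalIdeal (vertex k n) R)
    refine (IsLocalRing.maximalIdeal.isMaximal R).ne_top ((Ideal.eq_top_iff_one _).2 ?_)
    have h3 := sub_mem (Ideal.mul_mem_right w _ hz) (h2 h1)
    rwa [sub_sub_cancel] at h3
  haveI : IsDomain A := by
    refine isDomain_of_punctured (fun p _ hp => ?_) (Ideal.Quotient.mk J z₁) (Ideal.Quotient.mk J z₂)
      (hzmem g₁) (hzmem g₂) ?_ ?_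
    · let P0 : Ideal (S ⧸ I) := (vertex k n).map (Ideal.Quotient.mk I)
      haveI : IsLocalization.AtPrime A P0 := hloc
      let Q := p.comap (algebraMap (S ⧸ I) A)
      haveI : Q.IsPrime := Ideal.IsPrime.comap _
      have h := IsLocalization.isLocalization_isLocalization_atPrime_isLocalization P0.primeCompl
        (Localization.AtPrime p) p
      haveI : IsRegularLocalRing (Localization.AtPrime Q) := by
        refine hreg Q ?_
        by_contra! hX
        apply hp
        refine le_antisymm (IsLocalRing.le_maximalIdeal (Ideal.IsPrime.ne_top ‹_›)) ?_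
        rw [← IsLocalization.AtPrime.map_eq_maximalIdeal P0 A, Ideal.map_le_iff_le_comap]
        refine Ideal.map_le_iff_le_comap.2 (le_of_forall_X_mem fun j => ?_)
        exact hX j
      haveI : IsDomain (Localization.AtPrime Q) := RegLoc6.isDomain_of_isRegularLocalRing (Localization.AtPrime Q)
      exact (IsLocalization.algEquiv Q.primeCompl (Localization.AtPrime p) (Localization.AtPrime Q)).toRingEquiv.toMulEquiv.isDomain
        (Localization.AtPrime Q)
    · have h := (isWeaklyRegular_iff R (rs 1)).1 (hrs 1 Nat.one_pos) r (by rw [hlen]; omega)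
      rw [hgetr, pow_one, Ideal.smul_eq_mul, Ideal.mul_top, htake] at h
      intro x y hxy
      obtain ⟨x, rfl⟩ := Ideal.Quotient.mk_surjective x
      obtain ⟨y, rfl⟩ := Ideal.Quotient.mk_surjective y
      exact h hxy
    · intro N x hN hx
      obtain ⟨x, rfl⟩ := Ideal.Quotient.mk_surjective x
      have h := (isWeaklyRegular_iff R (rs N)).1 (hrs N hN) (r + 1) (by rw [hlen]; omega)
      rw [hgetr1, Ideal.smul_eq_mul, Ideal.mul_top, List.take_succ_eq_append_getElem (by rw [hlen]; omega),
        Ideal.ofList_append, Ideal.ofList_singleton, hgetr, htake] at h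
      rw [Ideal.mem_span_singleton'] at hx ⊢
      obtain ⟨c, hc⟩ := hx
      obtain ⟨c, rfl⟩ := Ideal.Quotient.mk_surjective c
      rw [← map_pow (Ideal.Quotient.mk J), ← map_pow (Ideal.Quotient.mk J), ← map_mul (Ideal.Quotient.mk J),
        ← map_mul (Ideal.Quotient.mk J), Ideal.Quotient.eq] at hc
      have h1 : x ∈ J ⊔ Ideal.span {z₁ ^ N} := by
        have h2 : z₂ ^ N * x ∈ J ⊔ Ideal.span {z₁ ^ N} := by
          rw [show z₂ ^ N * x = c * z₁ ^ N - (c * z₁ ^ N - z₂ ^ N * x) by ring]
          exact sub_mem (Ideal.mem_sup_right (Ideal.mem_span_singleton'.2 ⟨c, rfl⟩)) (Ideal.mem_sup_left hc)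
        rw [← Ideal.Quotient.eq_zero_iff_mem]
        apply h
        show z₂ ^ N • Ideal.Quotient.mk (J ⊔ Ideal.span {z₁ ^ N}) x = z₂ ^ N • (0 : R ⧸ (J ⊔ Ideal.span {z₁ ^ N}))
        rw [smul_zero, show z₂ ^ N • Ideal.Quotient.mk (J ⊔ Ideal.span {z₁ ^ N}) x =
          Ideal.Quotient.mk (J ⊔ Ideal.span {z₁ ^ N}) (z₂ ^ N * x) from rfl, Ideal.Quotient.eq_zero_iff_mem]
        exact h2
      obtain ⟨u, hu, v, hv, huv⟩ := Submodule.mem_sup.1 h1
      obtain ⟨w, rfl⟩ := Ideal.mem_span_singleton'.1 hv
      refine ⟨Ideal.Quotient.mk J w, ?_⟩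
      rw [← huv, map_add, Ideal.Quotient.eq_zero_iff_mem.2 hu, zero_add, map_mul, map_pow]
  have hdom : IsDomain (S ⧸ I) := by
    have hinj : Function.Injective (algebraMap (S ⧸ I) A) := by
      rw [injective_iff_map_eq_zero]
      intro x hx
      obtain ⟨p, rfl⟩ := Ideal.Quotient.mk_surjective x
      obtain ⟨⟨s, hs⟩, hsp⟩ := (IsLocalization.map_eq_zero_iff ((vertex k n).map (Ideal.Quotient.mk I)).primeCompl A _).1 hx
      obtain ⟨s, rfl⟩ := Ideal.Quotient.mk_surjective s
      rw [← map_mul, Ideal.Quotient.eq_zero_iff_mem] at hsp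
      refine Ideal.Quotient.eq_zero_iff_mem.2 (mem_of_mul_mem (fun p hp N => component_mem_span hfh hp N)
        (fun hsv => hs (Ideal.mem_map_of_mem _ hsv)) hsp)
    exact hinj.isDomain _
  refine ⟨hdom, ?_, hreg⟩
  haveI hIp : I.IsPrime := (Ideal.Quotient.isDomain_iff_prime I).1 hdom
  have hdisj : Disjoint ((vertex k n).primeCompl : Set S) (I : Set S) :=
    Set.disjoint_left.2 fun z hz hzI => hz (hIM hzI)
  have h1 : J.height = I.height :=
    IsLocalization.height_map_of_disjoint (vertex k n).primeCompl I hdisj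
  have hreg1 : IsWeaklyRegular R ((rs 1).take r) := by
    have h := hrs 1 Nat.one_pos
    rw [← List.take_append_drop r (rs 1), isWeaklyRegular_append_iff] at h
    exact h.1
  have hreg2 : IsRegular R ((rs 1).take r) := IsRegular.of_isWeaklyRegular_of_mem_maximalIdeal R
    (fun z hz => by
      obtain ⟨i, -, rfl⟩ := List.mem_take_iff_getElem.1 hz
      simp only [rs, List.getElem_ofFn]
      rw [IsLocalization.AtPrime.to_map_mem_maximal_iff R (vertex k n)]
      refine Ideal.pow_mem_of_mem _ (mem_vertex_iff.2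
        ((isHomogeneous_form d' a _).coeff_eq_zero (by simpa using (hd' _).ne))) _ (by split_ifs <;> omega))
    hreg1
  have h2 := Module.supportDim_add_length_eq_supportDim_of_isRegular ((rs 1).take r) hreg2
  rw [Module.supportDim_self_eq_ringKrullDim, Ideal.smul_eq_mul, Ideal.mul_top, htake,
    Module.supportDim_quotient_eq_ringKrullDim, List.length_take, hlen, min_eq_left (by omega)] at h2
  have h3 := FormCat.height_add_ringKrullDim_quotient_regular R J
    (fun h => by
      haveI := Ideal.Quotient.subsingleton_iff.2 h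
      exact not_nontrivial A inferInstance)
  rw [← h2, h1] at h3
  show I.height = r
  obtain ⟨v, hv⟩ : ∃ v : ℕ, ringKrullDim (R ⧸ J) = (v : WithBot ℕ∞) := by
    have hle : ringKrullDim (R ⧸ J) ≤ ((n + 1 : ℕ) : WithBot ℕ∞) :=
      ringKrullDim_vertex (k := k) (n := n) ▸ ringKrullDim_quotient_le J
    obtain ⟨w, hw⟩ := WithBot.ne_bot_iff_exists.1
      (ne_bot_of_le_ne_bot WithBot.zero_ne_bot (ringKrullDim_nonneg_of_nontrivial (R := A)))
    have hw' : ringKrullDim (R ⧸ J) = (w : WithBot ℕ∞) := hw.symm
    rw [hw'] at hle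
    have hle' : w ≤ ((n + 1 : ℕ) : ℕ∞) := WithBot.coe_le_coe.1 hle
    obtain ⟨v, rfl⟩ := ENat.ne_top_iff_exists.1 (ne_top_of_le_ne_top (ENat.coe_ne_top _) hle')
    exact ⟨v, hw'⟩
  rw [hv] at h3
  have h4 : (v : ℕ∞) + I.height = (v : ℕ∞) + (r : ℕ∞) := WithBot.coe_inj.1 h3
  exact WithTop.add_left_cancel (ENat.natCast_ne_top v) h4

end Groth.Agent.CIBert
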